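import Groth.Agent.SpecSubLib.Basic
import Mathlib.Topology.Spectral.Hom
import Mathlib.Topology.Connected.TotallyDisconnected

/-! # Further properties of spectral spaces -/

set_option autoImplicit false

open Topology TopologicalSpace Set

namespace Groth.Agent.SpecSubLib

variable {X Y : Type*} [tX : TopologicalSpace X] [tY : TopologicalSpace Y]

theorem continuous_cons_of_isSpectralMap {f : X → Y} (hf : IsSpectralMap f) :
    @Continuous X Y (constructibleTopology X) (constructibleTopology Y) f := by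
  refine continuous_generateFrom_iff.mpr fun s hs => ?_
  rcases hs with ⟨ho, hc⟩ | ⟨hcl, hc⟩
  · exact (hf.isCompact_preimage_of_isOpen ho hc).isOpen_constructibleTopology_of_isOpen (ho.preimage hf.continuous)
  · exact IsCompact.isOpen_constructibleTopology_of_isClosed
      (by rw [← Set.preimage_compl]; exact hf.isCompact_preimage_of_isOpen hcl.isOpen_compl hc) (hcl.preimage hf.continuous)

theorem isClosed_cons_of_isClosed [PrespectralSpace X] {s : Set X} (hs : IsClosed s) :
    IsClosed[constructibleTopology X] s :=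
  @IsClosed.mk X (constructibleTopology X) s (isOpen_cons_of_isOpen hs.isOpen_compl)

theorem isClosed_cons_image [SpectralSpace X] [SpectralSpace Y] {f : X → Y} (hf : IsSpectralMap f) {s : Set X}
    (hs : IsClosed[constructibleTopology X] s) : IsClosed[constructibleTopology Y] (f '' s) :=
  @IsCompact.isClosed Y (constructibleTopology Y) ProConsLib.t2Space_cons _
    (@IsCompact.image X Y (constructibleTopology X) (constructibleTopology Y) s f (ProConsLib.isCompact_cons_of_isClosed hs)
      (continuous_cons_of_isSpectralMap hf))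

theorem isClosed_of_stableUnderSpecialization [SpectralSpace X] {E : Set X} (hE : IsClosed[constructibleTopology X] E)
    (h : StableUnderSpecialization E) : IsClosed E := by
  refine closure_subset_iff_isClosed.mp fun x hx => ?_
  obtain ⟨y, hy, hyx⟩ := ProConsLib.exists_specializes_of_mem_closure hE hx
  exact h hyx hy

theorem isOpen_of_stableUnderGeneralization [SpectralSpace X] {E : Set X} (hE : IsOpen[constructibleTopology X] E)
    (h : StableUnderGeneralization E) : IsOpen E := by
  have := isClosed_of_stableUnderSpecialization (@IsClosed.mk X (constructibleTopology X) Eᶜ (by rwa [compl_compl]))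
    (stableUnderSpecialization_compl_iff.mpr h)
  simpa using this.isOpen_compl

theorem exists_isClopen_cons [SpectralSpace X] {x y : X} (h : x ≠ y) :
    ∃ U : Set X, @IsClopen X (constructibleTopology X) U ∧ x ∈ U ∧ y ∉ U := by
  wlog hxy : ¬ y ⤳ x generalizing x y with H
  · obtain ⟨U, hU, hy, hx⟩ := H h.symm fun h' => h ((not_not.mp hxy).antisymm h').eq.symm
    exact ⟨Uᶜ, @IsClopen.compl X (constructibleTopology X) _ hU, hx, not_not.mpr hy⟩
  obtain ⟨O, hO, hxO, hyO⟩ := not_specializes_iff_exists_open.mp hxy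
  obtain ⟨V, ⟨hV, hVc⟩, hxV, hVO⟩ := PrespectralSpace.isTopologicalBasis.exists_subset_of_mem_open hxO hO
  exact ⟨V, ProConsLib.isClopen_cons_of_isConstructible (hVc.isConstructible hV), hxV, fun h => hyO (hVO h)⟩

theorem totallyDisconnectedSpace_cons [SpectralSpace X] : @TotallyDisconnectedSpace X (constructibleTopology X) := by
  letI := constructibleTopology X
  haveI : TotallySeparatedSpace X := totallySeparatedSpace_iff_exists_isClopen.mpr fun x y h => by
    obtain ⟨U, hU, hx, hy⟩ := @exists_isClopen_cons X tX _ x y h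
    exact ⟨U, hU, hx, hy⟩
  infer_instance

theorem exists_gen_or_disjoint [SpectralSpace X] (x y : X) :
    (∃ z : X, z ⤳ x ∧ z ⤳ y) ∨ (∃ U V : Set X, IsOpen U ∧ IsOpen V ∧ x ∈ U ∧ y ∈ V ∧ Disjoint U V) := by
  classical
  by_contra h
  push Not at h
  obtain ⟨h1, h2⟩ := h
  let I := {U : Set X // IsOpen U ∧ IsCompact U ∧ (x ∈ U ∨ y ∈ U)}
  obtain ⟨t, ht⟩ := @IsCompact.elim_finite_subfamily_closed X (constructibleTopology X) Set.univ I
    (@isCompact_univ X (constructibleTopology X) ProConsLib.compactSpace_cons) (fun U => U.1)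
    (fun U => isClosed_cons_of_isConstructible (U.2.2.1.isConstructible U.2.1))
    (eq_empty_of_forall_notMem fun z hz => by
      have key : ∀ w, (w = x ∨ w = y) → z ⤳ w := fun w hw => specializes_iff_forall_open.mpr fun O hO hwO => by
        obtain ⟨V, ⟨hV, hVc⟩, hwV, hVO⟩ := PrespectralSpace.isTopologicalBasis.exists_subset_of_mem_open hwO hO
        exact hVO (mem_iInter.mp hz.2 ⟨V, hV, hVc, by rcases hw with rfl | rfl <;> simp [hwV]⟩)
      exact h1 z (key x (Or.inl rfl)) (key y (Or.inr rfl)))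
  let A := ⋂ U ∈ t.filter (fun U : I => x ∈ U.1), U.1
  let B := ⋂ U ∈ t.filter (fun U : I => y ∈ U.1), U.1
  refine h2 A B (isOpen_biInter_finset fun U _ => U.2.1) (isOpen_biInter_finset fun U _ => U.2.1)
    (mem_iInter₂.mpr fun U hU => (Finset.mem_filter.mp hU).2) (mem_iInter₂.mpr fun U hU => (Finset.mem_filter.mp hU).2)
    (Set.disjoint_left.mpr fun z hzA hzB => ?_)
  refine (eq_empty_iff_forall_notMem.mp ht z) ⟨trivial, mem_iInter₂.mpr fun U hU => ?_⟩
  rcases U.2.2.2 with hx | hy
  · exact mem_iInter₂.mp hzA U (Finset.mem_filter.mpr ⟨hU, hx⟩)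
  · exact mem_iInter₂.mp hzB U (Finset.mem_filter.mpr ⟨hU, hy⟩)

theorem exists_subset_open_of_directed [SpectralSpace X] {I : Type*} [Nonempty I] (U : I → Set X)
    (hU : ∀ i, IsOpen (U i) ∧ IsCompact (U i)) (hdir : ∀ i j, ∃ k, U k ⊆ U i ∩ U j) {V : Set X} (hV : IsOpen V)
    (hUV : (⋂ i, U i) ⊆ V) : ∃ i, U i ⊆ V := by
  obtain ⟨i, hi⟩ := @IsCompact.elim_directed_family_closed X (constructibleTopology X) Set.univ I _
    (@isCompact_univ X (constructibleTopology X) ProConsLib.compactSpace_cons) (fun i => U i ∩ Vᶜ)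
    (fun i => @IsClosed.inter X _ _ (constructibleTopology X) (isClosed_cons_of_isConstructible ((hU i).2.isConstructible (hU i).1))
      (isClosed_cons_of_isClosed hV.isClosed_compl))
    (eq_empty_of_forall_notMem fun z hz => by
      have := mem_iInter.mp hz.2
      exact (this (Classical.arbitrary I)).2 (hUV (mem_iInter.mpr fun i => (this i).1)))
    (fun i j => by
      obtain ⟨k, hk⟩ := hdir i j
      exact ⟨k, fun z hz => ⟨(hk hz.1).1, hz.2⟩, fun z hz => ⟨(hk hz.1).2, hz.2⟩⟩)
  exact ⟨i, fun z hz => by_contra fun hzV => (eq_empty_iff_forall_notMem.mp hi z) ⟨trivial, hz, hzV⟩⟩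

theorem generalization_eq_iInter [SpectralSpace X] {E : Set X} (hE : IsCompact E) :
    {x : X | ∃ e ∈ E, x ⤳ e} = ⋂₀ {U : Set X | IsOpen U ∧ IsCompact U ∧ E ⊆ U} := by
  refine Set.Subset.antisymm (fun x ⟨e, he, hxe⟩ U hU => hxe.mem_open hU.1 (hU.2.2 he)) fun x hx => ?_
  by_contra hne
  obtain ⟨U, hUc, hUo, hEU, hUx⟩ := PrespectralSpace.exists_isCompact_and_isOpen_between (U := (closure {x})ᶜ) hE
    isClosed_closure.isOpen_compl (fun e he hc => hne ⟨e, he, specializes_iff_mem_closure.mpr hc⟩)
  exact hUx (hx U ⟨hUo, hUc, hEU⟩) (subset_closure rfl)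

theorem spectralSpace_prod' [SpectralSpace X] [SpectralSpace Y] : SpectralSpace (X × Y) := by
  have hb := (PrespectralSpace.isTopologicalBasis (X := X)).prod (PrespectralSpace.isTopologicalBasis (X := Y))
  have hb' : IsTopologicalBasis (Set.range fun p : {U : Set X // IsOpen U ∧ IsCompact U} × {V : Set Y // IsOpen V ∧ IsCompact V} => p.1.1 ×ˢ p.2.1) := by
    convert hb using 1
    ext W
    exact ⟨fun ⟨p, h⟩ => ⟨p.1.1, p.1.2, p.2.1, p.2.2, h⟩, fun ⟨U, hU, V, hV, h⟩ => ⟨(⟨U, hU⟩, ⟨V, hV⟩), h⟩⟩
  haveI : PrespectralSpace (X × Y) := .of_isTopologicalBasis hb' (by rintro _ ⟨p, rfl⟩; exact p.1.2.2.prod p.2.2.2)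
  haveI : QuasiSeparatedSpace (X × Y) := .of_isTopologicalBasis hb' fun p q => by
    rw [Set.prod_inter_prod]
    exact (QuasiSeparatedSpace.inter_isCompact _ _ p.1.2.1 p.1.2.2 q.1.2.1 q.1.2.2).prod
      (QuasiSeparatedSpace.inter_isCompact _ _ p.2.2.1 p.2.2.2 q.2.2.1 q.2.2.2)
  haveI : QuasiSober (X × Y) := ⟨fun {S} hS hSc => by
    obtain ⟨a, ha⟩ := QuasiSober.sober (hS.image _ continuous_fst.continuousOn).closure isClosed_closure
    obtain ⟨b, hb2⟩ := QuasiSober.sober (hS.image _ continuous_snd.continuousOn).closure isClosed_closure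
    have hab : (a, b) ∈ S := by
      rw [← hSc.closure_eq, hb'.mem_closure_iff]
      rintro _ ⟨p, rfl⟩ ⟨hpa, hpb⟩
      obtain ⟨_, hw, s, hs, rfl⟩ := mem_closure_iff.mp ha.mem p.1.1 p.1.2.1 hpa
      obtain ⟨_, hw', s', hs', rfl⟩ := mem_closure_iff.mp hb2.mem p.2.1 p.2.2.1 hpb
      obtain ⟨z, hz, hz1, hz2⟩ := hS.2 _ _ (p.1.2.1.preimage continuous_fst) (p.2.2.1.preimage continuous_snd)
        ⟨s, hs, hw⟩ ⟨s', hs', hw'⟩
      exact ⟨z, ⟨hz1, hz2⟩, hz⟩
    refine ⟨(a, b), isGenericPoint_iff_specializes.mpr fun w => ⟨fun h => h.mem_closed hSc hab, fun hw => ?_⟩⟩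
    exact (ha.specializes (subset_closure (mem_image_of_mem _ hw))).prod (hb2.specializes (subset_closure (mem_image_of_mem _ hw)))⟩
  exact { }

theorem spectralSpace_of_finite [Finite X] [T0Space X] [QuasiSober X] : SpectralSpace X := by
  haveI : QuasiSeparatedSpace X := QuasiSeparatedSpace.of_isTopologicalBasis (b := fun U : {U : Set X // IsOpen U} => U.1) (by convert (isTopologicalBasis_opens (α := X)); exact Subtype.range_coe_subtype) fun _ _ =>
    (Set.toFinite _).isCompact
  haveI : PrespectralSpace X := .of_isTopologicalBasis isTopologicalBasis_opens fun U _ => U.toFinite.isCompact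
  exact { }

end Groth.Agent.SpecSubLib
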