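import Groth.Agent.ProConsLib.Top
import Mathlib.Topology.Spectral.ConstructibleTopology
import Mathlib.Topology.Order

/-! # Subspaces closed in the constructible topology; powers of the Sierpiński space -/

set_option autoImplicit false

open Topology TopologicalSpace Set

namespace Groth.Agent.SpecSubLib

variable {X : Type*} [t : TopologicalSpace X]

theorem isOpen_cons_of_isOpen [PrespectralSpace X] {U : Set X} (hU : IsOpen U) :
    IsOpen[constructibleTopology X] U := by
  rw [(PrespectralSpace.isTopologicalBasis (X := X)).open_eq_sUnion' hU]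
  exact @isOpen_sUnion X (constructibleTopology X) _ fun V hV => hV.1.2.isOpen_constructibleTopology_of_isOpen hV.1.1

theorem isCompact_of_isClosed_cons [SpectralSpace X] {s : Set X} (hs : IsClosed[constructibleTopology X] s) :
    IsCompact s := by
  have h := ProConsLib.isCompact_cons_of_isClosed hs
  have hc : Continuous[constructibleTopology X, t] (id : X → X) :=
    continuous_id_iff_le.mpr fun U hU => isOpen_cons_of_isOpen hU
  have := @IsCompact.image X X (constructibleTopology X) t s id h hc
  rwa [image_id] at this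

theorem isClosed_cons_of_isConstructible [SpectralSpace X] {s : Set X} (hs : IsConstructible s) :
    IsClosed[constructibleTopology X] s :=
  (ProConsLib.isClopen_cons_of_isConstructible hs).1

/-- A subspace which is closed in the constructible topology is spectral. -/
theorem spectralSpace_of_isClosed_cons [SpectralSpace X] {Y : Set X} (hY : IsClosed[constructibleTopology X] Y) :
    SpectralSpace Y := by
  have hcpt : ∀ U : Set X, IsOpen U → IsCompact U → IsCompact (Subtype.val ⁻¹' U : Set Y) := fun U hU hUc => by
    rw [Topology.IsInducing.subtypeVal.isCompact_iff, Subtype.image_preimage_coe]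
    exact isCompact_of_isClosed_cons (@IsClosed.inter X _ _ (constructibleTopology X) hY
      (isClosed_cons_of_isConstructible (hUc.isConstructible hU)))
  haveI : CompactSpace Y := isCompact_iff_compactSpace.1 (isCompact_of_isClosed_cons hY)
  have hb : IsTopologicalBasis (Set.range fun U : {U : Set X // IsOpen U ∧ IsCompact U} => (Subtype.val ⁻¹' U.1 : Set Y)) := by
    have := (PrespectralSpace.isTopologicalBasis (X := X)).isInducing (f := (Subtype.val : Y → X)) .subtypeVal
    convert this using 1
    ext W
    exact ⟨fun ⟨U, h⟩ => ⟨U.1, U.2, h⟩, fun ⟨U, hU, h⟩ => ⟨⟨U, hU⟩, h⟩⟩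
  haveI : PrespectralSpace Y := .of_isTopologicalBasis hb (by
    rintro _ ⟨U, rfl⟩
    exact hcpt _ U.2.1 U.2.2)
  haveI : QuasiSeparatedSpace Y := .of_isTopologicalBasis hb fun U V => by
    rw [← preimage_inter]
    exact hcpt _ (U.2.1.inter V.2.1) (QuasiSeparatedSpace.inter_isCompact _ _ U.2.1 U.2.2 V.2.1 V.2.2)
  haveI : QuasiSober Y := ⟨fun {S} hS hSc => by
    obtain ⟨η, hη⟩ := QuasiSober.sober (hS.image _ continuous_subtype_val.continuousOn).closure isClosed_closure
    obtain ⟨C, hC, hSC⟩ := isClosed_induced_iff.mp hSc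
    have hF : IsClosed[constructibleTopology X] (Subtype.val '' S) := by
      rw [← hSC, Subtype.image_preimage_coe]
      exact @IsClosed.inter X _ _ (constructibleTopology X) hY (@IsClosed.mk X (constructibleTopology X) C (isOpen_cons_of_isOpen hC.isOpen_compl))
    obtain ⟨y, ⟨z, hz, rfl⟩, hyη⟩ := ProConsLib.exists_specializes_of_mem_closure hF hη.mem
    have heq : (z : X) = η := (hyη.antisymm (hη.specializes (subset_closure (mem_image_of_mem _ hz)))).eq
    refine ⟨z, (isGenericPoint_iff_specializes).mpr fun w => ⟨fun hw => hw.mem_closed hSc hz, fun hw => ?_⟩⟩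
    rw [← Topology.IsInducing.subtypeVal.specializes_iff, heq]
    exact hη.specializes (subset_closure (mem_image_of_mem _ hw))⟩
  exact { }

/-- The basic open set of a finite set of coordinates. -/
def box {I : Type*} (F : Finset I) : Set (I → Prop) := {p | ∀ i ∈ F, p i}

variable {I : Type*}

theorem isOpen_box (F : Finset I) : IsOpen (box F) := by
  have : box F = ⋂ i ∈ F, (fun p : I → Prop => p i) ⁻¹' {True} := by ext p; simp [box]
  rw [this]
  exact isOpen_biInter_finset fun i _ => (continuous_apply i).isOpen_preimage _ isOpen_singleton_true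

theorem isTopologicalBasis_box : IsTopologicalBasis (Set.range (box (I := I))) := by
  classical
  refine isTopologicalBasis_of_isOpen_of_nhds (by rintro _ ⟨F, rfl⟩; exact isOpen_box F) fun p U hp hU => ?_
  obtain ⟨I₀, u, hu, hsub⟩ := isOpen_pi_iff.mp hU p hp
  refine ⟨_, ⟨I₀.filter fun i => p i, rfl⟩, fun i hi => (Finset.mem_filter.mp hi).2, fun q hq => hsub fun i hi => ?_⟩
  by_cases h : p i
  · have : q i = p i := propext ⟨fun _ => h, fun _ => hq i (Finset.mem_filter.mpr ⟨hi, h⟩)⟩
    rw [this]; exact (hu i hi).2
  · have hn := (hu i hi).1.mem_nhds (hu i hi).2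
    rw [show p i = False from propext ⟨h, False.elim⟩, nhds_false] at hn
    rw [Filter.mem_top.mp hn]
    trivial

theorem isCompact_box (F : Finset I) : IsCompact (box F) := by
  refine isCompact_of_finite_subcover fun {ι} U hU hsub => ?_
  obtain ⟨j, hj⟩ := mem_iUnion.mp (hsub (a := fun i => i ∈ F) fun i hi => hi)
  refine ⟨{j}, fun q hq => mem_iUnion₂.mpr ⟨j, Finset.mem_singleton_self j, ?_⟩⟩
  obtain ⟨_, ⟨G, rfl⟩, hG, hGU⟩ := isTopologicalBasis_box.exists_subset_of_mem_open hj (hU j)
  exact hGU fun i hi => hq i (hG i hi)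

theorem box_inter [DecidableEq I] (F G : Finset I) : box F ∩ box G = box (F ∪ G) := by
  ext p
  simp [box, or_imp, forall_and]

theorem spectralSpace_pi : SpectralSpace (I → Prop) := by
  classical
  haveI : CompactSpace (I → Prop) := ⟨by
    convert isCompact_box (∅ : Finset I)
    ext p; simp [box]⟩
  haveI : PrespectralSpace (I → Prop) := .of_isTopologicalBasis isTopologicalBasis_box (by rintro _ ⟨F, rfl⟩; exact isCompact_box F)
  haveI : QuasiSeparatedSpace (I → Prop) := .of_isTopologicalBasis isTopologicalBasis_box fun F G => by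
    rw [box_inter]; exact isCompact_box _
  haveI : QuasiSober (I → Prop) := ⟨fun {Z} hZ hZc => by
    let p : I → Prop := fun i => ∃ z ∈ Z, z i
    have hp : p ∈ Z := by
      rw [← hZc.closure_eq, isTopologicalBasis_box.mem_closure_iff]
      rintro _ ⟨F, rfl⟩ hF
      have : (Z ∩ box F).Nonempty := by
        induction F using Finset.induction_on with
        | empty => obtain ⟨z, hz⟩ := hZ.nonempty; exact ⟨z, hz, by simp [box]⟩
        | insert a F _ ih =>
          obtain ⟨z, hz, hza⟩ : (Z ∩ box {a}).Nonempty := by
            obtain ⟨z, hz, hza⟩ := hF a (Finset.mem_insert_self a F)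
            exact ⟨z, hz, by simpa [box] using hza⟩
          obtain ⟨w, hw, hw1, hw2⟩ := hZ.2 _ _ (isOpen_box {a}) (isOpen_box F) ⟨z, hz, hza⟩
            (ih fun i hi => hF i (Finset.mem_insert_of_mem hi))
          exact ⟨w, hw, by rw [Finset.insert_eq, ← box_inter]; exact ⟨hw1, hw2⟩⟩
      rwa [inter_comm] at this
    refine ⟨p, isGenericPoint_iff_specializes.mpr fun w => ⟨fun h => h.mem_closed hZc hp, fun hw => ?_⟩⟩
    rw [specializes_iff_forall_open]
    intro U hU hwU
    obtain ⟨_, ⟨G, rfl⟩, hG, hGU⟩ := isTopologicalBasis_box.exists_subset_of_mem_open hwU hU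
    exact hGU fun i hi => ⟨w, hw, hG i hi⟩⟩
  exact { }

end Groth.Agent.SpecSubLib
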